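import Groth.Prelude.Def_LocCohZ
import Mathlib.CategoryTheory.Preadditive.Yoneda.Limits

/-!
# `Hom(ℤ_V/ℤ_W, G)` is the group of sections over `V` vanishing on `W`
-/

set_option autoImplicit false

universe u

open CategoryTheory CategoryTheory.Limits Opposite TopologicalSpace

namespace Groth.Agent.LocCohSS

variable {X : TopCat.{u}} {W V : Opens X} (h : W ≤ V)

/-- `Hom(ℤ_V/ℤ_W, G) = Γ_{V∖W}(V, G)`. -/
noncomputable def homSect (G : CohTop.Ab X) : (LocCohZ.zq h ⟶ G) ≃+ LocCohZ.sectZ G h :=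
  (Abelian.Ext.addEquiv₀ (X := LocCohZ.zq h) (Y := G)).symm.trans (LocCohZ.sect0Equiv G h)

theorem homSect_val (G : CohTop.Ab X) (φ : LocCohZ.zq h ⟶ G) :
    (homSect h G φ).1 = CohFree.evalGen (Opens.grothendieckTopology X) V G (cokernel.π _ ≫ φ) := by
  change CohFree.evalGen _ V G (cokernel.π _ ≫
    Abelian.Ext.addEquiv₀ (Abelian.Ext.addEquiv₀.symm φ)) = _
  rw [AddEquiv.apply_symm_apply]

theorem homSect_comp {G G' : CohTop.Ab X} (φ : LocCohZ.zq h ⟶ G) (a : G ⟶ G') :
    (homSect h G' (φ ≫ a)).1 = a.hom.app (op V) (homSect h G φ).1 := by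
  rw [homSect_val, homSect_val]
  rfl

/-- sections vanishing on an open, transported along a continuous map -/
noncomputable def sectPush {Y : TopCat.{u}} (f : X ⟶ Y) {W V : Opens Y} (h : W ≤ V) (G : CohTop.Ab X) :
    LocCohZ.sectZ ((CohTop.push f).obj G) h ≃+
      LocCohZ.sectZ G (show (Opens.map f).obj W ≤ (Opens.map f).obj V from fun _ hx => h hx) where
  toFun s := ⟨s.1, s.2⟩
  invFun s := ⟨s.1, s.2⟩
  left_inv _ := rfl
  right_inv _ := rfl
  map_add' _ _ := rfl

/-- `Hom(ℤ_Y/ℤ_V, f_* G) = Hom(ℤ_X/ℤ_{f⁻¹V}, G)`. -/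
noncomputable def pushZqIso {Y : TopCat.{u}} (f : X ⟶ Y) (V : Opens Y) :
    CohTop.push f ⋙ preadditiveCoyoneda.obj (op (LocCohZ.zq (le_top : V ≤ ⊤))) ≅
      preadditiveCoyoneda.obj (op (LocCohZ.zq (le_top : (Opens.map f).obj V ≤ ⊤))) :=
  NatIso.ofComponents
    (fun G => AddEquiv.toAddCommGrpIso
      (((homSect (le_top : V ≤ ⊤) _).trans (sectPush f (le_top : V ≤ ⊤) G)).trans
        (homSect (le_top : (Opens.map f).obj V ≤ ⊤) G).symm))
    (fun {G G'} a => by
      ext φ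
      apply (homSect (le_top : (Opens.map f).obj V ≤ ⊤) G').injective
      refine ((homSect (le_top : (Opens.map f).obj V ≤ ⊤) G').apply_symm_apply _).trans ?_
      apply Subtype.ext
      refine Eq.trans ?_ (homSect_comp (le_top : (Opens.map f).obj V ≤ ⊤) _ a).symm
      refine Eq.trans (homSect_comp (le_top : V ≤ ⊤) φ ((CohTop.push f).map a)) ?_
      refine Eq.trans ?_ (congrArg (fun z => a.hom.app (op ((Opens.map f).obj ⊤)) (Subtype.val z))
        ((homSect (le_top : (Opens.map f).obj V ≤ ⊤) G).apply_symm_apply _)).symm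
      rfl)

end Groth.Agent.LocCohSS
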